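import Cfsg.Agent.SmallBlock.LocalAlgebra
import Cfsg.Agent.BlocksLocal.TwoCharacters
import Cfsg.Agent.CyclicDefect.Rank
import Cfsg.Agent.BlockPairs.Contributions
import Cfsg.Agent.Blocks.HeightZero

/-!
# Blocks of rank one with at most four characters

The corner of the block algebra is commutative, so the block algebra has dimension `k n ^ 2` for
the number `n` of primitive idempotents; hence all degrees are `n`, all regular parts agree, and
the number of characters is the order of a defect group.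
-/

set_option autoImplicit false
set_option linter.unusedSectionVars false
set_option linter.style.haveILetI false

namespace CfsgLib.SmallBlock

open Cfsg CfsgLib.BlockPairs CfsgLib.Star
open CfsgLib.Blocks (localRing red Res idemBar setIdemO isBlockUnion_of_isPBlock
  memLocalRing_blockCoeff)
open scoped ComplexConjugate

universe u

variable {p : ℕ} [hp : Fact p.Prime] {M : Ideal AlgInt} [M.IsPrime] {G : Type u} [Group G]
  [Fintype G] {B : Set (IrrCharacter G)}

/-- The trace of the block idempotent at a member is its degree. -/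
theorem T_gblk (hB : Cfsg.IsPBlock M B) {χ : IrrCharacter G} (hχ : χ ∈ B) :
    T M (χ : G → ℂ) 1 (gblk M B) = (χ : G → ℂ) 1 := by
  classical
  have hcl := Characters.isClassFunction_of_isIrr χ.2
  have hBu := isBlockUnion_of_isPBlock hB
  have hidem : (setIdemO M B (memLocalRing_blockCoeff hBu) : MonoidAlgebra (localRing M) G) *
      (setIdemO M B (memLocalRing_blockCoeff hBu) : MonoidAlgebra (localRing M) G) =
      (setIdemO M B (memLocalRing_blockCoeff hBu) : MonoidAlgebra (localRing M) G) := by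
    rw [← Subring.coe_mul]
    congr 1
    exact CfsgLib.Blocks.ctr_ext_omegaO fun ψ => by
      rw [map_mul, CfsgLib.Blocks.omegaO_setIdemO]; split_ifs <;> simp
  rw [T_eq hcl hidem
      ⟨by rw [← MonoidAlgebra.one_def]; exact Commute.one_left _, gblk_eq hBu⟩,
    ← MonoidAlgebra.one_def, one_mul, ← mul_one (setIdemO M B (memLocalRing_blockCoeff hBu) :
      MonoidAlgebra (localRing M) G), tau_mul_setIdemO χ hBu, if_pos hχ, tau_apply,
    Finset.sum_eq_single (1 : G) (fun b _ hb => by simp [MonoidAlgebra.one_def, Ne.symm hb])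
      (by simp)]
  simp [MonoidAlgebra.one_def]

/-- The regular parts of a block of rank one are multiples of one of them. -/
theorem exists_regular_mul (hl : Cfsg.blockRank p B = 1) {χ₀ : IrrCharacter G} (hχ₀ : χ₀ ∈ B)
    {χ : IrrCharacter G} (hχ : χ ∈ B) :
    ∃ c : ℂ, ∀ g : G, ¬ p ∣ orderOf g → (χ : G → ℂ) g = c * (χ₀ : G → ℂ) g := by
  set f := fun φ : IrrCharacter G => Cfsg.pRegularPart p (φ : G → ℂ)
  have hne : f χ₀ ≠ 0 := fun h => Characters.irr_one_ne_zero χ₀.2 (by
    have := congrFun h 1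
    simpa [f, Cfsg.pRegularPart, Cfsg.IsPRegular, hp.out.ne_one] using this)
  have heq : Submodule.span ℂ {f χ₀} = Submodule.span ℂ (f '' B) := by
    refine Submodule.eq_of_le_of_finrank_eq
      ((Submodule.span_singleton_le_iff_mem _ _).2 (Submodule.subset_span ⟨χ₀, hχ₀, rfl⟩)) ?_
    rw [finrank_span_singleton hne]
    exact hl.symm
  obtain ⟨c, hc⟩ := Submodule.mem_span_singleton.1
    (heq ▸ Submodule.subset_span ⟨χ, hχ, rfl⟩ : f χ ∈ Submodule.span ℂ {f χ₀})
  refine ⟨c, fun g hg => ?_⟩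
  have := congrFun hc g
  simpa [f, Cfsg.pRegularPart, Cfsg.IsPRegular, hg, eq_comm] using this

theorem exists_degree_eq (hM : Cfsg.IsPModular p M) (hB : Cfsg.IsPBlock M B)
    (hl : Cfsg.blockRank p B = 1) (hk : Nat.card B ≤ 4) :
    ∃ n : ℕ, ∀ χ ∈ B, Cfsg.charDegree (χ : G → ℂ) = n := by
  classical
  haveI := CfsgLib.Blocks.charP_res hM
  haveI := BlockPairs.isAlgClosed_res hM
  haveI : Module.Finite (Res M) (GA (Res M) G) :=
    Module.Finite.of_basis (MonoidAlgebra.basis G (Res M))
  have hBu := isBlockUnion_of_isPBlock hB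
  obtain ⟨χ₀, hχ₀⟩ := CfsgLib.Blocks.isPBlock_nonempty hB
  obtain ⟨s, hs⟩ := Star.exists_decomp (A := (⊤ : Subalgebra (Res M) (GA (Res M) G)))
    (j := gblk M B) trivial (isBlock_gblk hB).idem
  have hs' := hs
  rw [CyclicDefect.gblk_eq_idemBar hB] at hs'
  choose! c hc using fun χ (h : χ ∈ B) => exists_regular_mul (p := p) hl hχ₀ h
  have heqv := BlocksLocal.eqv_of_regular_proportional (p := p) hBu
    (∑ χ ∈ B.toFinite.toFinset, c χ • BlocksLocal.classVec χ) (fun y hy => by
      refine Submodule.mem_span_singleton.2 ⟨(χ₀ : G → ℂ) y, ?_⟩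
      rw [Finset.smul_sum]
      refine Finset.sum_congr rfl fun χ hχ => ?_
      rw [smul_smul, hc χ ((Set.Finite.mem_toFinset _).1 hχ) y hy, mul_comm]) hs'
  have hne : s.Nonempty := by
    rw [Finset.nonempty_iff_ne_empty]
    intro h0
    exact (isBlock_gblk (M := M) hB).ne_zero (by rw [← hs.2.2, h0, Finset.sum_empty])
  let lam : GA (Res M) G →ₗ[Res M] Res M :=
    { toFun := fun x => x.coeff 1
      map_add' := fun x y => by simp
      map_smul' := fun r x => by simp }
  have hlam : ∀ x y, lam (x * y) = lam (y * x) := by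
    intro x y
    show (x * y).coeff 1 = (y * x).coeff 1
    induction x using MonoidAlgebra.induction_linear with
    | zero => simp
    | add a b ha hb => rw [add_mul, mul_add, MonoidAlgebra.coeff_add, MonoidAlgebra.coeff_add,
        Finsupp.add_apply, Finsupp.add_apply, ha, hb]
    | single g r =>
      rw [MonoidAlgebra.coeff_single_mul_apply, MonoidAlgebra.coeff_mul_single_apply, mul_one,
        one_mul, mul_comm]
  have hnd : ∀ x : GA (Res M) G, (∀ y, lam (x * y) = 0) → x = 0 := fun x h => ga_ext fun g => by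
    have := h (MonoidAlgebra.single g⁻¹ 1)
    change (x * MonoidAlgebra.single g⁻¹ 1).coeff 1 = 0 at this
    simpa [MonoidAlgebra.coeff_mul_single_apply] using this
  have hdim := SmallBlock.finrank_eq_sq_mul
    (fun x => (Subring.mem_center_iff.1 (idemBar M B hBu).2 x).symm) hs' hne heqv
    (BlocksLocal.classTrace (Res M) G) BlocksLocal.classTrace_comm BlocksLocal.ker_classTrace_le
    lam hlam hnd (by rw [BlocksLocal.finrank_map_classTrace hBu]; exact hk)
  rw [BlocksLocal.finrank_map_classTrace hBu, BlocksLocal.finrank_blockAlgebra hBu] at hdim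
  -- degrees are multiples of the number of idempotents
  have hdeg : ∀ χ ∈ B, ∃ r : ℕ, 0 < r ∧ Cfsg.charDegree (χ : G → ℂ) = s.card * r := by
    intro χ hχ
    obtain ⟨i, hi⟩ := hne
    have hcl := Characters.isClassFunction_of_isIrr χ.2
    obtain ⟨E, hE, hEz⟩ := exists_lift (M := M) i (hs.1 i hi).2.1
    have hEz1 := hEz 1 (conjA_one_left i)
    obtain ⟨r, hr, -⟩ := CyclicDefect.exists_rank (Characters.isCharacter_of_isIrr χ.2) hE
    have hT : T M (χ : G → ℂ) 1 i = r := by
      rw [T_eq hcl hE hEz1, ← MonoidAlgebra.one_def, one_mul, hr]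
    have h : (Cfsg.charDegree (χ : G → ℂ) : ℂ) = ((s.card * r : ℕ) : ℂ) := by
      rw [CfsgLib.Blocks.charDegree_cast, ← T_gblk hB hχ, ← hs.2.2,
        T_sum hcl 1 s (fun a => a) (fun a ha => (hs.1 a ha).2.1)
          (fun a ha b hb hab => hs.2.1 a ha b hb hab) (fun a _ => conjA_one_left a),
        Finset.sum_congr rfl (g := fun _ => T M (χ : G → ℂ) 1 i), Finset.sum_const, hT,
        nsmul_eq_mul, Nat.cast_mul]
      intro a ha
      obtain ⟨x, -, y, -, hxy, hyx⟩ := heqv a ha i hi
      exact T_equiv hcl (hs.1 a ha).2.1 (hs.1 i hi).2.1 hxy hyx (conjA_one_left x) (conjA_one_left y)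
    have h' : Cfsg.charDegree (χ : G → ℂ) = s.card * r := Nat.cast_injective h
    exact ⟨r, Nat.pos_of_ne_zero fun h0 => CfsgLib.Blocks.charDegree_ne_zero χ
      (by rw [h', h0, mul_zero]), h'⟩
  choose! r hr0 hr using hdeg
  refine ⟨s.card, fun χ hχ => ?_⟩
  rw [finsum_mem_eq_toFinset_sum, Finset.sum_congr rfl fun ψ hψ => by
    rw [hr ψ (Set.mem_toFinset.1 hψ), mul_pow], ← Finset.mul_sum, Nat.card_eq_fintype_card,
    ← Set.toFinset_card] at hdim
  have hsum : ∑ ψ ∈ B.toFinset, r ψ ^ 2 = B.toFinset.card :=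
    Nat.eq_of_mul_eq_mul_left (pow_pos hne.card_pos 2) hdim
  by_contra hne'
  have h2 : 2 ≤ r χ := by
    have := hr0 χ hχ
    by_contra h
    exact hne' (by rw [hr χ hχ, show r χ = 1 by omega, mul_one])
  refine hsum.not_gt ?_
  rw [Finset.card_eq_sum_ones]
  exact Finset.sum_lt_sum (fun ψ hψ => Nat.one_le_pow _ _ (hr0 ψ (Set.mem_toFinset.1 hψ)))
    ⟨χ, Set.mem_toFinset.2 hχ, by nlinarith⟩

/-- The number of characters is the order of a defect group. -/
theorem card_eq_pow_defect (hM : Cfsg.IsPModular p M) (hB : Cfsg.IsPBlock M B)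
    (hl : Cfsg.blockRank p B = 1) (hk : Nat.card B ≤ 4) :
    Nat.card B = p ^ Cfsg.blockDefect p B := by
  classical
  obtain ⟨n, hn⟩ := exists_degree_eq hM hB hl hk
  obtain ⟨χ₀, hχ₀, h0⟩ := Blocks.exists_height_zero (p := p) hM hB
  have hreg : ∀ χ ∈ B, ∀ g : G, ¬ p ∣ orderOf g → (χ : G → ℂ) g = (χ₀ : G → ℂ) g := by
    intro χ hχ g hg
    obtain ⟨c, hc⟩ := exists_regular_mul (p := p) hl hχ₀ hχ
    have h1 := hc 1 (by rw [orderOf_one]; exact hp.out.not_dvd_one)
    rw [← CfsgLib.Blocks.charDegree_cast, ← CfsgLib.Blocks.charDegree_cast, hn χ hχ, hn χ₀ hχ₀] at h1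
    have hn0 : (n : ℂ) ≠ 0 := Nat.cast_ne_zero.2 (hn χ₀ hχ₀ ▸ CfsgLib.Blocks.charDegree_ne_zero χ₀)
    rw [hc g hg, (mul_eq_right₀ hn0).1 h1.symm, one_mul]
  have hinner : ∀ χ ∈ B, BlockPairing.regInner p (χ : G → ℂ) χ =
      BlockPairing.regInner p (χ₀ : G → ℂ) χ₀ := by
    intro χ hχ
    simp only [BlockPairing.regInner]
    congr 1
    exact Finset.sum_congr rfl fun g _ => by
      split_ifs with hg
      · rfl
      · rw [hreg χ hχ g hg]
  set c := CfsgLib.Contributions.contrib p B χ₀ χ₀ with hcdef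
  have hc : (c : ℂ) = _ := CfsgLib.Contributions.cast_contrib hχ₀ χ₀
  have hsum : (Nat.card B : ℤ) * c = ((p ^ Cfsg.blockDefect p B : ℕ) : ℤ) := by
    refine Int.cast_injective (α := ℂ) ?_
    have h := CfsgLib.Contributions.blockRank_eq_sum hM hB
    rw [hl, Finset.sum_congr rfl fun χ hχ => hinner χ (Set.mem_toFinset.1 hχ), Finset.sum_const,
      nsmul_eq_mul, Set.toFinset_card, ← Nat.card_eq_fintype_card] at h
    rw [Nat.cast_one] at h
    push_cast
    rw [hc]
    push_cast
    linear_combination (-((p : ℂ) ^ Cfsg.blockDefect p B)) * h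
  have hpc : ¬ (p : ℤ) ∣ c := by
    have h := CfsgLib.Contributions.not_dvd_of_height_zero hM hB hχ₀ hχ₀ h0
    rwa [h0, zero_add, pow_one] at h
  have hpos : 0 < (Nat.card B : ℤ) := by
    haveI : Nonempty B := ⟨⟨χ₀, hχ₀⟩⟩
    exact_mod_cast Nat.card_pos (α := B)
  have hc0 : 0 < c := by
    have : (0 : ℤ) < (Nat.card B : ℤ) * c := by
      rw [hsum]; exact_mod_cast pow_pos hp.out.pos _
    exact (pos_iff_pos_of_mul_pos this).1 hpos
  have hc1 : c = 1 := by
    have hd : c.natAbs ∣ p ^ Cfsg.blockDefect p B :=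
      Int.natCast_dvd_natCast.1 (by rw [Int.natAbs_of_nonneg hc0.le, ← hsum]; exact dvd_mul_left c _)
    obtain ⟨j, -, hj⟩ := (Nat.dvd_prime_pow hp.out).1 hd
    rcases Nat.eq_zero_or_pos j with rfl | hj0
    · rw [pow_zero] at hj; omega
    · refine absurd ?_ hpc
      rw [← Int.natAbs_of_nonneg hc0.le, hj]
      exact_mod_cast dvd_pow_self p hj0.ne'
  rw [hc1, mul_one] at hsum
  exact_mod_cast hsum

end CfsgLib.SmallBlock
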