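import Cfsg.Agent.InertialQuotient.MasterSum
import Cfsg.Agent.InertialQuotient.Setup
import Cfsg.Agent.AbelianDefect.Root
import Cfsg.Agent.S4637
import Cfsg.Agent.S4669

/-!
# Blocks of rank one with a defect group of order at most four

With `k = |D|` and one irreducible Brauer character the inertial index is one, so the block is
nilpotent.
-/

set_option autoImplicit false
set_option linter.unusedSectionVars false
set_option linter.style.haveILetI false

namespace CfsgLib.SmallBlock

open Cfsg CfsgLib.BlockPairs CfsgLib.InertialQuotient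
open CfsgLib.Blocks (Res)

universe u

variable {G : Type u} [Group G] [Fintype G] {M : Ideal AlgInt} [M.IsPrime] {p : ℕ}
  [hp : Fact p.Prime] [CharP (Res M) p] [IsAlgClosed (Res M)]
  {B : Set (IrrCharacter G)} {P : Subgroup G} {eP : GA (Res M) G}

theorem nilp_of_stab_le (hB : Cfsg.IsPBlock M B) (hab : P ≤ Subgroup.centralizer (P : Set G))
    (hmax : IsMaxPair p ⊤ (gblk M B) P eP)
    (h : stab ⊤ P eP ≤ Subgroup.centralizer (P : Set G)) : Nilp p ⊤ (gblk M B) := by
  have hgb := isBlock_gblk (M := M) hB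
  have htop : Subgroup.centralizer (((⊥ : Subgroup G)) : Set G) = ⊤ :=
    Subgroup.centralizer_eq_top_iff_subset.2 fun x hx => by
      rw [SetLike.mem_coe, Subgroup.mem_bot] at hx; subst hx; exact one_mem _
  have hle := le_of_blockHas hmax.1.1 hab bot_le (htop.symm ▸ hgb) (htop.symm ▸ hmax.1)
  have := (nilp_centralizer_iff hgb hmax hab hle).2 fun g hg => h hg.1
  rwa [htop] at this

theorem rk_self (hM : Cfsg.IsPModular p M) (hB : Cfsg.IsPBlock M B)
    (hab : P ≤ Subgroup.centralizer (P : Set G)) (hmax : IsMaxPair p ⊤ (gblk M B) P eP) :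
    rk p P eP P = 1 := by
  haveI := Fintype.ofFinite (Subgroup.centralizer (P : Set G))
  obtain ⟨f, hf, hfeq⟩ := exists_eq_sblk (M := M) (isBlock_below hmax (le_refl P))
  have hmaxC := maxPair_below hB hmax hab (le_refl P)
  rw [hfeq] at hmaxC
  have hfD : Cfsg.IsDefectGroup p M f (P.subgroupOf (Subgroup.centralizer (P : Set G))) :=
    (isDefectGroup_subgroupOf_iff hf hab).2 (hmaxC.isDefectGrp (isBlock_sblk hf)).1
  rw [rk, hfeq, rkE_sblk hf]
  exact Cfsg.Agent.S4669.result p M hM f hf _ hfD fun z hz => Subgroup.mem_center_iff.2 fun g =>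
    Subtype.ext (Subgroup.mem_centralizer_iff.1 g.2 z hz).symm

open Classical in
/-- Order three: the stabilizer centralizes. -/
theorem stab_le_of_order_three (hM : Cfsg.IsPModular p M) (hB : Cfsg.IsPBlock M B)
    (hab : P ≤ Subgroup.centralizer (P : Set G)) (hmax : IsMaxPair p ⊤ (gblk M B) P eP)
    (hP : Nat.card P = 3) (hk : Nat.card B = 3) (hl : Cfsg.blockRank p B = 1) :
    stab ⊤ P eP ≤ Subgroup.centralizer (P : Set G) := by
  intro g hg
  by_contra hgC
  haveI : Fact (Nat.Prime 3) := ⟨Nat.prime_three⟩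
  have hgen : ∀ w : P, w ≠ 1 → Subgroup.zpowers (w : G) = P := fun w hw => by
    refine Subgroup.eq_of_le_of_card_ge (Subgroup.zpowers_le.2 w.2) ?_
    rw [Nat.card_zpowers, hP, Subgroup.orderOf_coe]
    refine le_of_eq (orderOf_eq_prime ?_ hw).symm
    rw [← hP]; exact pow_card_eq_one'
  -- `g` moves every nontrivial element
  have hmove : ∀ w : P, w ≠ 1 → g * (w : G) * g⁻¹ ≠ w := by
    intro w hw hfix
    refine hgC (Subgroup.mem_centralizer_iff.2 fun v hv => ?_)
    rw [SetLike.mem_coe, ← hgen w hw] at hv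
    obtain ⟨i, rfl⟩ := Subgroup.mem_zpowers_iff.1 hv
    exact ((show Commute (w : G) g from (mul_inv_eq_iff_eq_mul.1 hfix).symm).zpow_left i).eq
  have hsum := card_eq_sum (P := P) (eP := eP) hB hmax hab hM
  rw [hk] at hsum
  have hone : rk p P eP (Subgroup.zpowers ((1 : P) : G)) = 1 := by
    rw [rk_of_centralizer_top hB hmax hab hM (Subgroup.zpowers_le.2 (1 : P).2), hl]
    exact Subgroup.centralizer_eq_top_iff_subset.2 fun x hx => by
      rw [OneMemClass.coe_one, Subgroup.zpowers_one_eq_bot, SetLike.mem_coe, Subgroup.mem_bot] at hx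
      subst hx; exact one_mem _
  have ho1 : ocard (stab ⊤ P eP) ((1 : P) : G) = 1 := ocard_of_fixed fun t _ => by simp
  rw [← Finset.add_sum_erase _ _ (Finset.mem_univ (1 : P)), hone, ho1] at hsum
  have hterm : ∀ w ∈ (Finset.univ : Finset P).erase 1,
      (rk p P eP (Subgroup.zpowers (w : G)) : ℂ) / (ocard (stab ⊤ P eP) (w : G) : ℂ) = 1 / 2 := by
    intro w hw
    have hw1 := (Finset.mem_erase.1 hw).1
    rw [hgen w hw1, rk_self hM hB hab hmax]
    have hlow : 1 < ocard (stab ⊤ P eP) (w : G) := by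
      rw [ocard, Finite.one_lt_card_iff_nontrivial]
      exact ⟨⟨_, mem_orb_self _ _⟩, ⟨g * w * g⁻¹, g, hg, rfl⟩,
        fun h => hmove w hw1 (congrArg Subtype.val h).symm⟩
    have hhigh : ocard (stab ⊤ P eP) (w : G) ≤ 2 := by
      let φ : orb (stab ⊤ P eP) (w : G) → {y : P // y ≠ 1} := fun v =>
        ⟨⟨v, by obtain ⟨t, ht, he⟩ := v.2; rw [← he]
                exact (Subgroup.mem_normalizer_iff.1 ht.1.2 w).1 w.2⟩, fun h => by
          obtain ⟨t, -, he⟩ := v.2
          have : (v : G) = 1 := congrArg Subtype.val h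
          rw [this] at he
          exact hw1 (Subtype.ext (conj_eq_one_iff.1 he))⟩
      have hφ : Function.Injective φ := fun a b h =>
        Subtype.ext (congrArg (fun y : {y : P // y ≠ 1} => ((y.1 : P) : G)) h)
      refine (Nat.card_le_card_of_injective φ hφ).trans_eq ?_
      rw [Nat.card_eq_fintype_card, Fintype.card_subtype_compl, Fintype.card_subtype_eq,
        ← Nat.card_eq_fintype_card, hP]
    rw [show ocard (stab ⊤ P eP) (w : G) = 2 by omega]
    norm_num
  rw [Finset.sum_congr rfl hterm, Finset.sum_const, Finset.card_erase_of_mem (Finset.mem_univ _),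
    Finset.card_univ, ← Nat.card_eq_fintype_card, hP] at hsum
  norm_num at hsum

omit [CharP (Res M) p] [IsAlgClosed (Res M)] in
/-- A block with `k = |D| ≤ 4` and one Brauer character is nilpotent. -/
theorem isNilpotentBlock_of_small (hM : Cfsg.IsPModular p M) (hB : Cfsg.IsPBlock M B)
    (hD : Cfsg.IsDefectGroup p M B P) (hk : Nat.card B = Nat.card P)
    (hl : Cfsg.blockRank p B = 1) (h4 : Nat.card P ≤ 4) :
    Cfsg.IsNilpotentBlock p M B := by
  classical
  haveI := CfsgLib.Blocks.charP_res hM
  haveI := BlockPairs.isAlgClosed_res hM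
  obtain ⟨j, hj⟩ := IsPGroup.iff_card.1 (CfsgLib.Blocks.IsDefectGroup.isPGroup hD)
  have hj2 : j ≤ 2 := by
    by_contra h
    have h8 : 2 ^ 3 ≤ p ^ j :=
      (Nat.pow_le_pow_left hp.out.two_le 3).trans (Nat.pow_le_pow_right hp.out.pos (by omega))
    omega
  have hcomm : ∀ x ∈ P, ∀ y ∈ P, x * y = y * x := by
    have : ∀ x y : P, x * y = y * x := by
      interval_cases j
      · haveI : Subsingleton P := (Nat.card_eq_one_iff_unique.1 (by simpa using hj)).1
        exact fun x y => by rw [Subsingleton.elim x y]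
      · haveI := isCyclic_of_prime_card (α := P) (by simpa using hj)
        exact fun x y => (IsCyclic.commGroup (α := P)).mul_comm x y
      · exact fun x y => (IsPGroup.commutative_of_card_eq_prime_sq hj) x y
    exact fun x hx y hy => congrArg Subtype.val (this ⟨x, hx⟩ ⟨y, hy⟩)
  have hab := le_centralizer_of_comm hcomm
  obtain ⟨c, hc⟩ := AbelianDefect.exists_root_block hM hB hD hcomm
  obtain ⟨hgb, hmax⟩ := maxPair_of_induced hM hD hab hc
  refine (isNilpotentBlock_gblk_iff hB).2 (nilp_of_stab_le hB hab hmax ?_)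
  set e := sblk M (Subgroup.centralizer (P : Set G)) c
  have hcard : Nat.card P ≤ 2 ∨ Nat.card P = 3 ∨ (p = 2 ∧ Nat.card P = 4) := by
    rcases (by omega : Nat.card P ≤ 2 ∨ Nat.card P = 3 ∨ Nat.card P = 4) with h | h | h
    · exact Or.inl h
    · exact Or.inr (Or.inl h)
    · refine Or.inr (Or.inr ⟨?_, h⟩)
      have h2 : 2 ∣ p ^ j := hj ▸ h ▸ ⟨2, rfl⟩
      exact ((Nat.prime_dvd_prime_iff_eq Nat.prime_two hp.out).1
        (Nat.prime_two.dvd_of_dvd_pow h2)).symm
  rcases hcard with h2 | h3 | ⟨rfl, h4'⟩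
  · intro g hg
    refine Subgroup.mem_centralizer_iff.2 fun v hv => ?_
    by_cases hv1 : v = 1
    · simp [hv1]
    have hv' : g * v * g⁻¹ ∈ P := (Subgroup.mem_normalizer_iff.1 hg.1.2 v).1 hv
    have heq : g * v * g⁻¹ = v := by
      by_contra hne
      haveI := Fintype.ofFinite P
      have h3 : ({1, ⟨v, hv⟩, ⟨_, hv'⟩} : Finset P).card = 3 := Finset.card_eq_three.2
        ⟨_, _, _, fun h => hv1 (congrArg Subtype.val h).symm,
          fun h => hv1 (conj_eq_one_iff.1 (congrArg Subtype.val h).symm),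
          fun h => hne (congrArg Subtype.val h).symm, rfl⟩
      have := Finset.card_le_univ ({1, ⟨v, hv⟩, ⟨_, hv'⟩} : Finset P)
      rw [← Nat.card_eq_fintype_card] at this
      omega
    exact (mul_inv_eq_iff_eq_mul.1 heq).symm
  · exact stab_le_of_order_three hM hB hab hmax h3 (hk.trans h3) hl
  · by_cases hcyc : IsCyclic P
    · intro g hg
      obtain ⟨v, hv⟩ := hcyc.exists_generator
      have hord : orderOf (v : G) = 4 := by
        rw [Subgroup.orderOf_coe, orderOf_eq_card_of_forall_mem_zpowers hv, h4']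
      refine mem_centralizer_of_pow hgb hmax hab hg 1 ?_
      have hzp : Subgroup.zpowers (v : G) = P := le_antisymm (Subgroup.zpowers_le.2 v.2) fun y hy => by
        obtain ⟨i, hi⟩ := hv ⟨y, hy⟩
        exact ⟨i, congrArg Subtype.val hi⟩
      have hv' : g * (v : G) * g⁻¹ ∈ P := (Subgroup.mem_normalizer_iff.1 hg.1.2 v).1 v.2
      replace hv' := hzp.ge hv'
      rw [← IsOfFinOrder.mem_powers_iff_mem_zpowers (isOfFinOrder_of_finite _)] at hv'
      obtain ⟨n, hn : (v : G) ^ n = g * (v : G) * g⁻¹⟩ := hv'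
      have h4n : orderOf ((v : G) ^ n) = 4 := by
        rw [hn, ← hord]; exact MulEquiv.orderOf_eq (MulAut.conj g) _
      have hodd : n % 2 = 1 := by
        rw [orderOf_pow, hord] at h4n
        rcases Nat.mod_two_eq_zero_or_one n with h | h
        · have h2 : 2 ∣ Nat.gcd 4 n := Nat.dvd_gcd ⟨2, rfl⟩ (Nat.dvd_of_mod_eq_zero h)
          have := Nat.le_of_dvd (Nat.gcd_pos_of_pos_left n (by norm_num)) h2
          have : 4 / Nat.gcd 4 n ≤ 4 / 2 := Nat.div_le_div_left this two_pos
          omega
        · exact h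
      have hsq : g ^ 2 * (v : G) * (g ^ 2)⁻¹ = v := by
        rw [sq, show g * g * (v : G) * (g * g)⁻¹ = MulAut.conj g (MulAut.conj g (v : G)) by
          simp [mul_assoc]]
        rw [show MulAut.conj g (v : G) = (v : G) ^ n from hn.symm, map_pow,
          show MulAut.conj g (v : G) = (v : G) ^ n from hn.symm, ← pow_mul]
        conv_rhs => rw [← pow_one (v : G)]
        refine pow_eq_pow_iff_modEq.2 ?_
        rw [hord, Nat.ModEq, Nat.mul_mod]
        have : n % 4 = 1 ∨ n % 4 = 3 := by omega
        rcases this with h | h <;> rw [h]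
      rw [pow_one]
      refine Subgroup.mem_centralizer_iff.2 fun y hy => ?_
      rw [SetLike.mem_coe, ← hzp] at hy
      obtain ⟨i, rfl⟩ := Subgroup.mem_zpowers_iff.1 hy
      exact ((show Commute (v : G) (g ^ 2) from (mul_inv_eq_iff_eq_mul.1 hsq).symm).zpow_left i).eq
    · haveI : Finite P := inferInstance
      have hdvd : ∀ x : P, x ^ 2 = 1 := by
        intro x
        have hx : orderOf x ∣ 2 ^ 2 := by
          have := orderOf_dvd_natCard x
          rwa [h4'] at this
        obtain ⟨i, hi, hxi⟩ := (Nat.dvd_prime_pow Nat.prime_two).1 hx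
        refine orderOf_dvd_iff_pow_eq_one.1 (hxi ▸ ?_)
        interval_cases i
        · exact one_dvd _
        · norm_num
        · exact absurd (isCyclic_of_orderOf_eq_card x (by rw [hxi, h4']; norm_num)) hcyc
      have hV : IsKleinFour P := by
        refine ⟨h4', ?_⟩
        have hd : Monoid.exponent P ∣ 2 := Monoid.exponent_dvd_of_forall_pow_eq_one hdvd
        rcases (Nat.dvd_prime Nat.prime_two).1 hd with h | h
        · have := Monoid.exp_eq_one_iff.1 h
          have := Nat.card_of_subsingleton (1 : P)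
          omega
        · exact h
      obtain ⟨-, -, hle⟩ := Cfsg.Agent.S4637.result M hM B hB P hD hV c hc (stab ⊤ P e)
        (fun g => (mem_stab_iff hc.1).symm) _ rfl
      rw [hl] at hle
      exact Subgroup.relIndex_eq_one.1 hle.symm

end CfsgLib.SmallBlock
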