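import Cfsg.Agent.BlocksLocal.ProjTrace

/-!
# Algebras with one class of primitive idempotents and at most four traces

The corner of a primitive idempotent is then a local algebra with a symmetric form in which the
commutators have codimension at most four.  Such an algebra is commutative, so its dimension is the
number of traces.
-/

set_option autoImplicit false
set_option linter.unusedSectionVars false
set_option linter.style.haveILetI false

namespace CfsgLib.SmallBlock

open CfsgLib.Star CfsgLib.BlocksLocal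
open scoped Pointwise

variable {k R : Type*} [Field k] [IsAlgClosed k] [Ring R] [Algebra k R] [FiniteDimensional k R]

theorem exists_le_span_sup_one {W V : Submodule k R} (hWV : W ≤ V)
    (h : Module.finrank k V ≤ Module.finrank k W + 1) :
    ∃ r ∈ V, V ≤ Submodule.span k {r} ⊔ W := by
  by_cases hVW : V ≤ W
  · exact ⟨0, zero_mem V, hVW.trans le_sup_right⟩
  obtain ⟨r, hr, hrW⟩ := SetLike.not_le_iff_exists.1 hVW
  refine ⟨r, hr, le_of_eq (Submodule.eq_of_le_of_finrank_le
    (sup_le ((Submodule.span_singleton_le_iff_mem r V).2 hr) hWV) ?_).symm⟩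
  have hlt : W < Submodule.span k {r} ⊔ W := lt_of_le_not_ge le_sup_right fun hle =>
    hrW (hle (Submodule.mem_sup_left (Submodule.mem_span_singleton_self r)))
  have := Submodule.finrank_lt_finrank_of_lt hlt
  omega

theorem exists_le_span_sup_two {W V : Submodule k R} (hWV : W ≤ V)
    (h : Module.finrank k V ≤ Module.finrank k W + 2) :
    ∃ x ∈ V, ∃ y ∈ V, V ≤ Submodule.span k {x} ⊔ Submodule.span k {y} ⊔ W := by
  by_cases hVW : V ≤ W
  · exact ⟨0, zero_mem V, 0, zero_mem V, hVW.trans le_sup_right⟩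
  obtain ⟨x, hx, hxW⟩ := SetLike.not_le_iff_exists.1 hVW
  have hlt : W < Submodule.span k {x} ⊔ W := lt_of_le_not_ge le_sup_right fun hle =>
    hxW (hle (Submodule.mem_sup_left (Submodule.mem_span_singleton_self x)))
  have := Submodule.finrank_lt_finrank_of_lt hlt
  obtain ⟨y, hy, hyle⟩ := exists_le_span_sup_one
    (sup_le ((Submodule.span_singleton_le_iff_mem x V).2 hx) hWV) (by omega)
  exact ⟨x, hx, y, hy, hyle.trans_eq (by rw [← sup_assoc, sup_comm (Submodule.span k {y})])⟩

/-- A nilpotent `N` spanned modulo `N * N` by `x` and `y`, with `N * N` spanned modulo its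
product with `N` by `x * y - y * x`, has `N * N * N = 0`. -/
theorem mul_mul_eq_bot {N : Submodule k R} (hN : N * N ≤ N) (hnil : ∀ x ∈ N, IsNilpotent x)
    {x y : R} (hx : x ∈ N) (hy : y ∈ N)
    (hgen : N ≤ Submodule.span k {x} ⊔ Submodule.span k {y} ⊔ N * N)
    (hsq : N * N ≤ Submodule.span k {x * y - y * x} ⊔ N * N * N) : N * N * N = ⊥ := by
  obtain ⟨c, hc⟩ : ∃ c, c = x * y - y * x := ⟨_, rfl⟩
  rw [← hc] at hsq
  set N2 := N * N with hN2
  set N3 := N2 * N with hN3
  set N4 := N3 * N with hN4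
  have hcN2 : c ∈ N2 := hc ▸ sub_mem (Submodule.mul_mem_mul hx hy) (Submodule.mul_mem_mul hy hx)
  have hr : ∀ {z w : R}, z ∈ N3 → w ∈ N → z * w ∈ N4 := fun h h' => Submodule.mul_mem_mul h h'
  have hassoc : N4 = N * N3 := by simp only [hN4, hN3, hN2, mul_assoc]
  have hl : ∀ {z w : R}, z ∈ N → w ∈ N3 → z * w ∈ N4 := fun h h' =>
    hassoc ▸ Submodule.mul_mem_mul h h'
  have hcoef : ∀ u ∈ N, ∀ v ∈ N, ∃ β : k, u * v - β • c ∈ N3 := by
    intro u hu v hv
    obtain ⟨z, hz, t, ht, hzt⟩ := Submodule.mem_sup.1 (hsq (Submodule.mul_mem_mul hu hv))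
    obtain ⟨β, rfl⟩ := Submodule.mem_span_singleton.1 hz
    exact ⟨β, by rw [← hzt]; simpa using ht⟩
  obtain ⟨a, ha⟩ := hcoef x hx x hx
  obtain ⟨b, hb⟩ := hcoef x hx y hy
  obtain ⟨e, he⟩ := hcoef y hy y hy
  have hb' : y * x - (b - 1) • c ∈ N3 := by
    have : y * x - (b - 1) • c = x * y - b • c := by rw [sub_smul, one_smul, hc]; abel
    rwa [this]
  -- associativity modulo the fourth power
  have key : ∀ {u v w : R}, u ∈ N → v ∈ N → w ∈ N → ∀ β γ : k, u * v - β • c ∈ N3 →
      v * w - γ • c ∈ N3 → β • (c * w) - γ • (u * c) ∈ N4 := by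
    intro u v w hu hv hw β γ h1 h2
    have : β • (c * w) - γ • (u * c) = u * (v * w - γ • c) - (u * v - β • c) * w := by
      rw [mul_sub, sub_mul, mul_smul_comm, smul_mul_assoc, mul_assoc]; abel
    rw [this]
    exact sub_mem (hl hu h2) (hr h1 hw)
  have h1 := key hx hx hx a a ha ha
  have h2 := key hx hx hy a b ha hb
  have h3 := key hx hy hx b (b - 1) hb hb'
  have h4 := key hx hy hy b e hb he
  have h5 := key hy hx hy (b - 1) b hb' hb
  have h6 := key hy hx hx (b - 1) a hb' ha
  have hcancel : ∀ {r : k} {z : R}, r ≠ 0 → r • z ∈ N4 → z ∈ N4 := fun hr0 h =>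
    (Submodule.smul_mem_iff N4 hr0).1 h
  have hLL : c * x ∈ N4 ∧ c * y ∈ N4 := by
    by_cases ha0 : a = 0
    · simp only [ha0, zero_smul, zero_sub, sub_zero, neg_mem_iff] at h2 h6
      by_cases hb0 : b = 0
      · simp only [hb0, zero_smul, zero_sub, sub_zero, neg_smul, one_smul, neg_mem_iff] at h5 h6
        exact ⟨h6, h5⟩
      · have hR := hcancel hb0 h2
        refine ⟨hcancel hb0 ?_, hcancel hb0 ?_⟩
        · simpa using add_mem h3 (N4.smul_mem (b - 1) hR)
        · simpa using add_mem h4 (N4.smul_mem e hR)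
    · have hd : c * x - x * c ∈ N4 := hcancel ha0 (by rwa [smul_sub])
      have hR : x * c ∈ N4 := by
        have : x * c = (b • (c * x) - (b - 1) • (x * c)) - b • (c * x - x * c) := by
          rw [sub_smul, one_smul, smul_sub]; abel
        rw [this]
        exact sub_mem h3 (N4.smul_mem b hd)
      refine ⟨by simpa using add_mem hd hR, hcancel ha0 ?_⟩
      simpa using add_mem h2 (N4.smul_mem b hR)
  have hstep : N3 ≤ N3 * N := by
    refine Submodule.mul_le.2 fun z hz w hw => ?_
    obtain ⟨z₁, hz₁, z₂, hz₂, rfl⟩ := Submodule.mem_sup.1 (hsq hz)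
    rw [add_mul]
    refine add_mem ?_ (hr hz₂ hw)
    obtain ⟨γ, rfl⟩ := Submodule.mem_span_singleton.1 hz₁
    obtain ⟨w₁, hw₁, w₂, hw₂, rfl⟩ := Submodule.mem_sup.1 (hgen hw)
    obtain ⟨u, hu, v, hv, rfl⟩ := Submodule.mem_sup.1 hw₁
    obtain ⟨α, rfl⟩ := Submodule.mem_span_singleton.1 hu
    obtain ⟨δ, rfl⟩ := Submodule.mem_span_singleton.1 hv
    rw [smul_mul_assoc, mul_add, mul_add, mul_smul_comm, mul_smul_comm]
    refine Submodule.smul_mem _ γ (add_mem (add_mem (N4.smul_mem α hLL.1) (N4.smul_mem δ hLL.2)) ?_)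
    have : N2 * N2 = N3 * N := by simp only [hN3, hN2, mul_assoc]
    exact this ▸ Submodule.mul_mem_mul hcN2 hw₂
  by_contra h0
  have hst : N3 * N ≤ N3 := by
    rw [hN3, hN2, mul_assoc (N * N) N N]
    exact mul_le_mul_right hN (N * N)
  exact (hstep.trans_lt (mul_lt_of_nilpotent hN hnil hst h0)).false

/-- A local algebra with a symmetric form in which the commutators have codimension at most four
is commutative. -/
theorem local_commute {A N T : Submodule k R} (a : R) (hA : A = Submodule.span k {a} ⊔ N)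
    (haN : a ∉ N) (hN : N * N ≤ N) (hnil : ∀ x ∈ N, IsNilpotent x)
    (hax : ∀ x ∈ N, x * a = x) (lam : R →ₗ[k] k)
    (hlam : ∀ x y, lam (x * y) = lam (y * x)) (hnd : ∀ x ∈ A, (∀ y ∈ A, lam (x * y) = 0) → x = 0)
    (hT : T = Submodule.span k {z | ∃ x ∈ N, ∃ y ∈ N, z = x * y - y * x})
    (hdim : Module.finrank k A ≤ Module.finrank k T + 4) :
    ∀ x ∈ N, ∀ y ∈ N, x * y = y * x := by
  classical
  have hNA : N ≤ A := hA ▸ le_sup_right
  have hTN2 : T ≤ N * N := hT ▸ Submodule.span_le.2 (by
    rintro _ ⟨x, hx, y, hy, rfl⟩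
    exact sub_mem (Submodule.mul_mem_mul hx hy) (Submodule.mul_mem_mul hy hx))
  have hlamT : ∀ z ∈ T, lam z = 0 := by
    intro z hz
    rw [hT] at hz
    induction hz using Submodule.span_induction with
    | mem z hz => obtain ⟨x, _, y, _, rfl⟩ := hz; rw [map_sub, hlam, sub_self]
    | zero => simp
    | add u v _ _ hu hv => rw [map_add, hu, hv, add_zero]
    | smul r u _ hu => rw [map_smul, hu, smul_zero]
  have hann : ∀ z ∈ N, (∀ n ∈ N, z * n = 0) → lam z = 0 → z = 0 := by
    intro z hz hzn hlz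
    refine hnd z (hNA hz) fun y hy => ?_
    rw [hA] at hy
    obtain ⟨u, hu, n, hn, rfl⟩ := Submodule.mem_sup.1 hy
    obtain ⟨r, rfl⟩ := Submodule.mem_span_singleton.1 hu
    rw [mul_add, mul_smul_comm, hax z hz, hzn n hn, add_zero, map_smul, hlz, smul_zero]
  by_cases h1 : Module.finrank k N ≤ Module.finrank k (N * N : Submodule k R) + 1
  · obtain ⟨r, hr, hle⟩ := exists_le_span_sup_one hN h1
    exact commute_of_le_span_sup hN hnil hr hle
  have hAN : Module.finrank k N < Module.finrank k A :=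
    Submodule.finrank_lt_finrank_of_lt (lt_of_le_not_ge hNA fun h => haN (h
      (hA ▸ Submodule.mem_sup_left (Submodule.mem_span_singleton_self a))))
  by_cases hN2 : N * N ≤ T
  · have h0 : N * N = ⊥ := by
      by_contra h0
      -- a nonzero element of `N * N` killed by `N`
      have key : ∀ W : Submodule k R, W * N ≤ W → W ≤ N * N → W ≠ ⊥ →
          ∃ s ∈ W, s ≠ 0 ∧ ∀ n ∈ N, s * n = 0 := by
        intro W
        have : WellFoundedLT (Submodule k R) := inferInstanceAs (IsArtinian k R)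
        induction W using WellFoundedLT.induction with
        | _ W ih =>
          intro hW hWle hW0
          by_cases hW1 : W * N = ⊥
          · obtain ⟨s, hs, hs0⟩ := Submodule.exists_mem_ne_zero_of_ne_bot hW0
            exact ⟨s, hs, hs0, fun n hn => (Submodule.mem_bot k).1 (hW1 ▸ Submodule.mul_mem_mul hs hn)⟩
          · obtain ⟨s, hs, hs'⟩ := ih _ (mul_lt_of_nilpotent hN hnil hW hW0)
              (mul_le_mul_left hW N) (hW.trans hWle) hW1
            exact ⟨s, hW hs, hs'⟩
      obtain ⟨s, hs, hs0, hsn⟩ := key (N * N) (mul_le_mul_left hN N) le_rfl h0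
      exact hs0 (hann s (hN hs) hsn (hlamT s (hN2 hs)))
    intro x hx y hy
    have h := fun u v (hu : u ∈ N) (hv : v ∈ N) =>
      (Submodule.mem_bot k).1 (h0 ▸ Submodule.mul_mem_mul hu hv : u * v ∈ (⊥ : Submodule k R))
    rw [h x y hx hy, h y x hy hx]
  have hT2 : Module.finrank k T < Module.finrank k (N * N : Submodule k R) :=
    Submodule.finrank_lt_finrank_of_lt (lt_of_le_not_ge hTN2 hN2)
  obtain ⟨x, hx, y, hy, hgen⟩ := exists_le_span_sup_two hN (by omega)
  have hTc : T ≤ Submodule.span k {x * y - y * x} ⊔ N * N * N := by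
    rw [hT, Submodule.span_le]
    rintro _ ⟨u, hu, v, hv, rfl⟩
    have hdec : ∀ w ∈ N, ∃ α β : k, ∃ n ∈ N * N, w = α • x + β • y + n := by
      intro w hw
      obtain ⟨w₁, hw₁, n, hn, rfl⟩ := Submodule.mem_sup.1 (hgen hw)
      obtain ⟨p, hp, q, hq, rfl⟩ := Submodule.mem_sup.1 hw₁
      obtain ⟨α, rfl⟩ := Submodule.mem_span_singleton.1 hp
      obtain ⟨β, rfl⟩ := Submodule.mem_span_singleton.1 hq
      exact ⟨α, β, n, hn, rfl⟩
    obtain ⟨α, β, n, hn, rfl⟩ := hdec u hu
    obtain ⟨γ, δ, n', hn', hv'⟩ := hdec v hv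
    have hA' : N * N * N = N * (N * N) := mul_assoc N N N
    have e : (α • x + β • y + n) * v - v * (α • x + β • y + n) =
        (α * δ - β * γ) • (x * y - y * x) + ((n * v - v * n) +
          ((α • x + β • y) * n' - n' * (α • x + β • y))) := by
      rw [hv']
      simp only [add_mul, mul_add, smul_mul_assoc, mul_smul_comm, smul_smul, sub_smul, smul_sub,
        smul_add, mul_comm γ, mul_comm δ]
      abel
    rw [e]
    refine Submodule.add_mem_sup (Submodule.smul_mem _ _ (Submodule.mem_span_singleton_self _)) ?_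
    have hp : α • x + β • y ∈ N := add_mem (N.smul_mem α hx) (N.smul_mem β hy)
    refine add_mem (sub_mem (Submodule.mul_mem_mul hn hv) ?_)
      (sub_mem ?_ (Submodule.mul_mem_mul hn' hp))
    · rw [hA']; exact Submodule.mul_mem_mul hv hn
    · rw [hA']; exact Submodule.mul_mem_mul hp hn'
  have h3 : N * N * N = ⊥ := by
    by_contra h3
    have hst : N * N * N * N ≤ N * N * N := by
      rw [mul_assoc (N * N) N N]; exact mul_le_mul_right hN (N * N)
    have key : ∀ W : Submodule k R, W * N ≤ W → W ≤ N * N * N → W ≠ ⊥ →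
        ∃ s ∈ W, s ≠ 0 ∧ ∀ n ∈ N, s * n = 0 := by
      intro W
      have : WellFoundedLT (Submodule k R) := inferInstanceAs (IsArtinian k R)
      induction W using WellFoundedLT.induction with
      | _ W ih =>
        intro hW hWle hW0
        by_cases hW1 : W * N = ⊥
        · obtain ⟨s, hs, hs0⟩ := Submodule.exists_mem_ne_zero_of_ne_bot hW0
          exact ⟨s, hs, hs0, fun n hn => (Submodule.mem_bot k).1 (hW1 ▸ Submodule.mul_mem_mul hs hn)⟩
        · obtain ⟨s, hs, hs'⟩ := ih _ (mul_lt_of_nilpotent hN hnil hW hW0)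
            (mul_le_mul_left hW N) (hW.trans hWle) hW1
          exact ⟨s, hW hs, hs'⟩
    obtain ⟨s, hs, hs0, hsn⟩ := key _ hst le_rfl h3
    have hN3 : N * N * N ≤ N * N := mul_le_mul_left hN N
    have hsT : s ∉ T := fun h => hs0 (hann s (hN (hN3 hs)) hsn (hlamT s h))
    have hlt : T < T ⊔ Submodule.span k {s} := lt_of_le_not_ge le_sup_left fun h =>
      hsT (h (Submodule.mem_sup_right (Submodule.mem_span_singleton_self s)))
    have hfl := Submodule.finrank_lt_finrank_of_lt hlt
    have heq : T ⊔ Submodule.span k {s} = N * N := Submodule.eq_of_le_of_finrank_le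
      (sup_le hTN2 ((Submodule.span_singleton_le_iff_mem s _).2 (hN3 hs))) (by omega)
    refine h3 (mul_mul_eq_bot hN hnil hx hy hgen (le_trans heq.symm.le (sup_le hTc ?_)))
    exact (Submodule.span_singleton_le_iff_mem s _).2 (Submodule.mem_sup_right hs)
  intro u hu v hv
  refine sub_eq_zero.1 (hann _ (hN (sub_mem (Submodule.mul_mem_mul hu hv)
    (Submodule.mul_mem_mul hv hu))) (fun n hn => (Submodule.mem_bot k).1 (h3 ▸ ?_)) (by
      rw [map_sub, hlam, sub_self]))
  exact Submodule.mul_mem_mul (sub_mem (Submodule.mul_mem_mul hu hv)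
    (Submodule.mul_mem_mul hv hu)) hn

variable {e : R} {s : Finset R}

local notation "⊤ₐ" => (⊤ : Subalgebra k R)

/-- One class of primitive idempotents: the dimension is the square of the number of idempotents
times the dimension of a local algebra with a symmetric form, whose dimension exceeds that of its
commutators by at most the number of traces. -/
theorem exists_corner {V : Type*} [AddCommGroup V] [Module k V]
    (hc : ∀ x : R, e * x = x * e) (hs : IsDecomp ⊤ₐ e s) (hne : s.Nonempty)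
    (hone : ∀ b ∈ s, ∀ b' ∈ s, Eqv ⊤ₐ b b') (π : R →ₗ[k] V) (hπ : ∀ x y, π (x * y) = π (y * x))
    (hker : LinearMap.ker π ≤ Submodule.span k {z | ∃ x y : R, z = x * y - y * x})
    (lam : R →ₗ[k] k) (hlam : ∀ x y, lam (x * y) = lam (y * x))
    (hnd : ∀ x, (∀ y, lam (x * y) = 0) → x = 0) :
    ∃ (a : R) (A N : Submodule k R), A = Submodule.span k {a} ⊔ N ∧ a ∉ N ∧ N * N ≤ N ∧
      (∀ x ∈ N, IsNilpotent x) ∧ (∀ x ∈ N, x * a = x) ∧
      (∀ x ∈ A, (∀ y ∈ A, lam (x * y) = 0) → x = 0) ∧
      Module.finrank k (LinearMap.range (LinearMap.mulLeft k e)) =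
        s.card ^ 2 * Module.finrank k A ∧
      Module.finrank k A ≤ Module.finrank k
          (Submodule.span k {z | ∃ x ∈ N, ∃ y ∈ N, z = x * y - y * x}) +
        Module.finrank k ((LinearMap.range (LinearMap.mulLeft k e)).map π) ∧
      Module.finrank k ((LinearMap.range (LinearMap.mulLeft k e)).map π) ≤ Module.finrank k A := by
  classical
  set E := LinearMap.range (LinearMap.mulLeft k e) with hE
  have hee : e * e = e := by
    conv_lhs => arg 2; rw [← hs.2.2]
    rw [Finset.mul_sum]
    exact (Finset.sum_congr rfl fun i hi => (hs.mul_mem_eq hi).1).trans hs.2.2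
  have hmemE : ∀ x, x ∈ E ↔ e * x = x := fun x =>
    ⟨by rintro ⟨y, rfl⟩; simp [← mul_assoc, hee], fun h => ⟨x, h⟩⟩
  obtain ⟨a, ha⟩ := hne
  obtain ⟨u, v, hua, hva, huv'⟩ := exists_frame hs ha
  have huv : ∀ l ∈ s, InCorner ⊤ₐ l a (u l) ∧ InCorner ⊤ₐ a l (v l) ∧ u l * v l = l ∧
      v l * u l = a := fun l hl => huv' l (mem_part.2 ⟨hl, hone a ha l hl⟩)
  have hP := hs.1 a ha
  let A0 : Submodule k R :=
    { carrier := {x | InCorner ⊤ₐ a a x}
      add_mem' := InCorner.add
      zero_mem' := InCorner.zero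
      smul_mem' := fun c _ hx => hx.smul c }
  let R0 : Submodule k R :=
    { carrier := {x | InCorner ⊤ₐ a a x ∧ IsNilpotent x}
      add_mem' := fun hx hy => ⟨hx.1.add hy.1, hP.nilpotent_add hx.1 hy.1 hx.2 hy.2⟩
      zero_mem' := ⟨InCorner.zero, IsNilpotent.zero⟩
      smul_mem' := fun c _ hx => ⟨hx.1.smul c, hx.2.smul c⟩ }
  have hR0mul : R0 * R0 ≤ R0 := Submodule.mul_le.2 fun x hx y hy =>
    ⟨hx.1.mul hy.1, hP.nilpotent_mul hx.1 hy.1 hx.2⟩
  have hAA : A0 ≤ E := fun x hx => (hmemE x).2 (by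
    rw [← hx.2.1, ← mul_assoc, (hs.mul_mem_eq ha).1])
  have hmemA : ∀ {l}, l ∈ s → ∀ (x : R) {m}, m ∈ s → v l * x * u m ∈ A0 := by
    intro l hl x m hm
    refine ⟨trivial, ?_, ?_⟩
    · rw [← mul_assoc, ← mul_assoc, (huv l hl).2.1.2.1]
    · rw [mul_assoc _ (u m), (huv m hm).1.2.2]
  let t : R →ₗ[k] R := ∑ l ∈ s, (LinearMap.mulLeft k (v l)).comp (LinearMap.mulRight k (u l))
  have ht : ∀ x, t x = ∑ l ∈ s, v l * x * u l := fun x => by
    simp [t, mul_assoc]
  have htA : ∀ x ∈ A0, t x = x := by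
    intro x hx
    rw [ht, Finset.sum_eq_single a (fun l hl hla => ?_) (fun h => absurd ha h), hua, hva,
      hx.2.1, hx.2.2]
    rw [← hx.2.1, ← (huv l hl).2.1.2.2, mul_assoc (v l) l, ← mul_assoc l a x,
      hs.2.1 l hl a ha hla]
    simp
  have htπ : ∀ x ∈ E, π (t x) = π x := by
    intro x hx
    have hxe : x = ∑ l ∈ s, x * l := by
      rw [← Finset.mul_sum, hs.2.2, ← hc, (hmemE x).1 hx]
    conv_rhs => rw [hxe, map_sum]
    rw [ht, map_sum]
    refine Finset.sum_congr rfl fun l hl => ?_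
    rw [mul_assoc, hπ, mul_assoc, (huv l hl).2.2.1]
  set T : Submodule k R := Submodule.span k {z | ∃ x ∈ R0, ∃ y ∈ R0, z = x * y - y * x}
  have hcom : ∀ X ∈ A0, ∀ Y ∈ A0, X * Y - Y * X ∈ T := by
    intro X hX Y hY
    refine Submodule.subset_span ⟨X - res k a X • a,
      ⟨hX.sub (hP.inCorner.smul _), hP.res_spec hX⟩, Y - res k a Y • a,
      ⟨hY.sub (hP.inCorner.smul _), hP.res_spec hY⟩, ?_⟩
    simp only [sub_mul, mul_sub, smul_mul_assoc, mul_smul_comm, hX.2.1, hX.2.2, hY.2.1, hY.2.2,
      hP.2.1, smul_sub, smul_comm (res k a X) (res k a Y)]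
    abel
  have htker : ∀ x, π x = 0 → t x ∈ T := by
    intro x hx
    have h := hker (LinearMap.mem_ker.2 hx)
    clear hx
    induction h using Submodule.span_induction with
    | mem z hz =>
      obtain ⟨x, y, rfl⟩ := hz
      have he : ∀ x y, t (x * y) = ∑ l ∈ s, ∑ n ∈ s, (v l * x * u n) * (v n * y * u l) := by
        intro x y
        rw [ht]
        refine Finset.sum_congr rfl fun l hl => ?_
        rw [expand_mul hc hs hl (huv l hl).2.1]
        refine Finset.sum_congr rfl fun n hn => ?_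
        calc v l * x * n * (n * y * u l) = v l * x * (n * n) * (y * u l) := by
              simp only [mul_assoc]
          _ = v l * x * (u n * v n) * (y * u l) := by rw [(hs.1 n hn).2.1, (huv n hn).2.2.1]
          _ = _ := by simp only [mul_assoc]
      rw [map_sub, he x y, he y x,
        Finset.sum_comm (f := fun l n => v l * y * u n * (v n * x * u l)), ← Finset.sum_sub_distrib]
      refine T.sum_mem fun l hl => ?_
      rw [← Finset.sum_sub_distrib]
      exact T.sum_mem fun n hn => hcom _ (hmemA hl x hn) _ (hmemA hn y hl)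
    | zero => simp
    | add x y _ _ hx hy => rw [map_add]; exact T.add_mem hx hy
    | smul c x _ hx => rw [map_smul]; exact T.smul_mem c hx
  have hT : T ≤ R0 * R0 := Submodule.span_le.2 fun z hz => by
    obtain ⟨x, hx, y, hy, rfl⟩ := hz
    exact Submodule.sub_mem _ (Submodule.mul_mem_mul hx hy) (Submodule.mul_mem_mul hy hx)
  have hEA : E.map π = A0.map π := by
    refine le_antisymm ?_ (Submodule.map_mono hAA)
    rintro _ ⟨x, hx, rfl⟩
    exact ⟨t x, by rw [ht]; exact A0.sum_mem fun l hl => hmemA hl x hl, htπ x hx⟩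
  have hsplit : A0 = Submodule.span k {a} ⊔ R0 := by
    refine le_antisymm (fun x hx => ?_) (sup_le ?_ fun x hx => hx.1)
    · have : x = res k a x • a + (x - res k a x • a) := by abel
      rw [this]
      exact Submodule.add_mem_sup (Submodule.mem_span_singleton.2 ⟨_, rfl⟩)
        ⟨hx.sub (hP.inCorner.smul _), hP.res_spec hx⟩
    · rw [Submodule.span_singleton_le_iff_mem]; exact hP.inCorner
  have hTA : T ≤ A0 := Submodule.span_le.2 fun z ⟨x, hx, y, hy, hz⟩ =>
    hz ▸ (hx.1.mul hy.1).sub (hy.1.mul hx.1)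
  have hsum : Module.finrank k (A0.map π) + Module.finrank k
      (LinearMap.ker (π.domRestrict A0)) = Module.finrank k A0 := by
    rw [← LinearMap.range_domRestrict]
    exact LinearMap.finrank_range_add_finrank_ker _
  have hkT : Module.finrank k (LinearMap.ker (π.domRestrict A0)) ≤ Module.finrank k T := by
    rw [← Submodule.finrank_map_subtype_eq A0]
    refine Submodule.finrank_mono ?_
    rintro _ ⟨⟨x, hx⟩, hx0, rfl⟩
    have := htker x hx0
    rwa [htA x hx] at this
  let Φ : E ≃ₗ[k] (s × s → A0) :=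
    { toFun := fun x lm => ⟨v lm.1 * x * u lm.2, hmemA lm.1.2 x lm.2.2⟩
      map_add' := fun x y => by funext lm; ext; simp [mul_add, add_mul]
      map_smul' := fun c x => by funext lm; ext; simp
      invFun := fun Y => ⟨∑ lm : s × s, u lm.1 * Y lm * v lm.2, (hmemE _).2 (by
        rw [Finset.mul_sum]
        refine Finset.sum_congr rfl fun lm _ => ?_
        rw [← mul_assoc, ← mul_assoc, ← (huv lm.1 lm.1.2).1.2.1, ← mul_assoc e,
          (hs.mul_mem_eq lm.1.2).1])⟩
      left_inv := fun x => by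
        apply Subtype.ext
        show ∑ lm : s × s, u lm.1 * (v lm.1 * (x : R) * u lm.2) * v lm.2 = (x : R)
        have h : ∀ lm : s × s, u lm.1 * (v lm.1 * (x : R) * u lm.2) * v lm.2 =
            (lm.1 : R) * x * lm.2 := by
          intro lm
          conv_rhs => rw [← (huv lm.1 lm.1.2).2.2.1, ← (huv lm.2 lm.2.2).2.2.1]
          simp only [mul_assoc]
        simp only [h, Fintype.sum_prod_type]
        simp only [← Finset.mul_sum, Finset.sum_coe_sort s fun i : R => i, hs.2.2]
        rw [Finset.sum_coe_sort s fun l => l * (x : R) * e]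
        simp only [← Finset.sum_mul, hs.2.2]
        rw [(hmemE _).1 x.2, ← hc, (hmemE _).1 x.2]
      right_inv := fun Y => by
        funext lm
        apply Subtype.ext
        show v lm.1 * (∑ pq : s × s, u pq.1 * Y pq * v pq.2) * u lm.2 = (Y lm : R)
        rw [Finset.mul_sum, Finset.sum_mul, Finset.sum_eq_single lm (fun pq _ hne => ?_) (by simp)]
        · calc v lm.1 * (u lm.1 * Y lm * v lm.2) * u lm.2
              = v lm.1 * u lm.1 * Y lm * (v lm.2 * u lm.2) := by simp only [mul_assoc]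
            _ = _ := by
              rw [(huv _ lm.1.2).2.2.2, (huv _ lm.2.2).2.2.2, (Y lm).2.2.1, (Y lm).2.2.2]
        · have hz : ∀ p q : s, p ≠ q → v p * u q = 0 := by
            intro p q hpq
            rw [← (huv p p.2).2.1.2.2, ← (huv q q.2).1.2.1, mul_assoc, ← mul_assoc (p : R),
              hs.2.1 p p.2 q q.2 (fun h => hpq (Subtype.ext h))]
            simp
          calc v lm.1 * (u pq.1 * Y pq * v pq.2) * u lm.2
              = v lm.1 * u pq.1 * Y pq * (v pq.2 * u lm.2) := by simp only [mul_assoc]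
            _ = 0 := by
              rcases not_and_or.1 (fun h : pq.1 = lm.1 ∧ pq.2 = lm.2 => hne (Prod.ext h.1 h.2))
                with h | h
              · rw [hz _ _ (Ne.symm h)]; simp
              · rw [hz _ _ h]; simp }
  refine ⟨a, A0, R0, hsplit, fun h => hP.not_nilpotent h.2, hR0mul, fun x hx => hx.2,
    fun x hx => hx.1.2.2, fun x hx h => hnd x fun y => ?_, ?_, ?_, ?_⟩
  · have hy : a * y * a ∈ A0 := ⟨trivial, by rw [← mul_assoc, ← mul_assoc, hP.2.1],
      by rw [mul_assoc, hP.2.1]⟩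
    rw [← h _ hy, ← mul_assoc, ← mul_assoc, hx.2.2, hlam (x * y) a, ← mul_assoc, hx.2.1]
  · rw [Φ.finrank_eq, Module.finrank_pi_fintype, Finset.sum_const, Finset.card_univ, smul_eq_mul,
      Fintype.card_prod, Fintype.card_coe, sq]
  · show _ ≤ Module.finrank k T + _
    rw [hEA]; omega
  · rw [hEA]; omega

/-- One class of primitive idempotents and at most four traces: the dimension is the square of
the number of idempotents times the number of traces. -/
theorem finrank_eq_sq_mul {V : Type*} [AddCommGroup V] [Module k V]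
    (hc : ∀ x : R, e * x = x * e) (hs : IsDecomp ⊤ₐ e s) (hne : s.Nonempty)
    (hone : ∀ b ∈ s, ∀ b' ∈ s, Eqv ⊤ₐ b b') (π : R →ₗ[k] V) (hπ : ∀ x y, π (x * y) = π (y * x))
    (hker : LinearMap.ker π ≤ Submodule.span k {z | ∃ x y : R, z = x * y - y * x})
    (lam : R →ₗ[k] k) (hlam : ∀ x y, lam (x * y) = lam (y * x))
    (hnd : ∀ x, (∀ y, lam (x * y) = 0) → x = 0)
    (hfour : Module.finrank k ((LinearMap.range (LinearMap.mulLeft k e)).map π) ≤ 4) :
    Module.finrank k (LinearMap.range (LinearMap.mulLeft k e)) =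
      s.card ^ 2 * Module.finrank k ((LinearMap.range (LinearMap.mulLeft k e)).map π) := by
  obtain ⟨a, A, N, hA, haN, hN, hnil, hax, hndA, hdim, hle, hge⟩ :=
    exists_corner hc hs hne hone π hπ hker lam hlam hnd
  have hcomm := local_commute (T := Submodule.span k {z | ∃ x ∈ N, ∃ y ∈ N, z = x * y - y * x})
    a hA haN hN hnil hax lam hlam hndA rfl (by omega)
  have hT0 : Submodule.span k {z | ∃ x ∈ N, ∃ y ∈ N, z = x * y - y * x} = ⊥ :=
    Submodule.span_eq_bot.2 fun z ⟨x, hx, y, hy, hz⟩ => by rw [hz, hcomm x hx y hy, sub_self]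
  rw [hT0, finrank_bot] at hle
  rw [hdim, show Module.finrank k A = _ from le_antisymm (by omega) hge]

end CfsgLib.SmallBlock
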